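import Groth.Agent.Lib.QuotAvg9.BaseChange
import Groth.Agent.Lib.DiagGrp.KernelFP
import Mathlib.AlgebraicGeometry.Morphisms.Proper

/-!
# Proper quotients
-/

set_option autoImplicit false
set_option linter.all false
set_option backward.isDefEq.respectTransparency false

universe u

open CategoryTheory CategoryTheory.Limits AlgebraicGeometry TopologicalSpace

namespace GrothLib.QuotAvg9

variable {X Y S : Scheme.{u}} {G : Type u} [Group G] [Finite G] {ρ : G →* Aut X} {p : X ⟶ Y}
  (hp : SGA1.IsQuot ρ p)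
include hp

theorem isOpenMap : IsOpenMap p := by
  intro U hU
  refine (GrothLib.SGA1Quot21.isQuotientMap hp).isOpen_preimage.1 ?_
  have : p ⁻¹' (p '' U) = ⋃ g : G, (ρ g).hom ⁻¹' U := by
    ext x
    simp only [Set.mem_preimage, Set.mem_image, Set.mem_iUnion]
    constructor
    · rintro ⟨y, hy, hyx⟩
      obtain ⟨g, hg⟩ := (GrothLib.SGA1Quot21.apply_eq_iff hp x y).1 hyx.symm
      exact ⟨g, hg ▸ hy⟩
    · rintro ⟨g, hg⟩
      refine ⟨(ρ g).hom x, hg, ?_⟩
      rw [← Scheme.Hom.comp_apply, hp.inv g]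
  rw [this]
  exact isOpen_iUnion fun g => hU.preimage (ρ g).hom.continuous

theorem isUnit_card_target (q : Y ⟶ S) (hu : IsUnit ((Nat.card G : ℕ) : Γ(S, ⊤))) :
    IsUnit ((Nat.card G : ℕ) : Γ(Y, ⊤)) := by
  have h := hu.map q.appTop.hom
  rwa [map_natCast] at h

theorem proper_package (f : X ⟶ S) (q : Y ⟶ S) (hf : p ≫ q = f) [IsProper f] [LocallyOfFinitePresentation f]
    (hu : IsUnit ((Nat.card G : ℕ) : Γ(S, ⊤))) :
    IsProper q ∧ LocallyOfFinitePresentation q ∧ LocallyOfFinitePresentation p := by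
  subst hf
  haveI := GrothLib.SGA1Quot21.isSeparated_of_comp hp q
  haveI := GrothLib.SGA1Quot21.quasiCompact_of_comp hp q
  haveI : LocallyOfFinitePresentation q :=
    locallyOfFinitePresentation_of_comp hp q (isUnit_card_target hp q hu)
  haveI : Surjective p := ⟨GrothLib.SGA1Quot21.surjective hp⟩
  haveI : UniversallyClosed q := UniversallyClosed.of_comp_surjective p q
  exact ⟨{ }, inferInstance, GrothLib.DiagGrp.lfp_of_comp_of_lft p q inferInstance inferInstance⟩

end GrothLib.QuotAvg9
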