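import Mathlib.RingTheory.Invariant.Basic
import Mathlib.RingTheory.Flat.Basic
import Mathlib.RingTheory.Finiteness.ModuleFinitePresentation
import Mathlib.RingTheory.IntegralClosure.IsIntegralClosure.Basic
import Mathlib.LinearAlgebra.TensorProduct.RightExactness

/-!
# Averaging over a finite group of invertible order

`A ⊆ B` the invariants of a finite group `G` whose order is invertible in `A`.

* `exists_retraction`: an `A`-linear retraction of `A → B`.
* `exists_of_invariant_tensor`, `injective_tmul_one`: invariants commute with every base change.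
* `flat_invariants`, `finitePresentation_invariants`.
-/

set_option autoImplicit false
set_option linter.all false

universe u

open TensorProduct

namespace GrothLib.QuotAvg9

theorem finitePresentation_of_retract (R R' A B : Type u) [CommRing R] [CommRing R'] [CommRing A] [CommRing B]
    [Algebra R R'] [Algebra R A] [Algebra R B] [Algebra R' A] [Algebra R' B] [Algebra A B]
    [IsScalarTower R R' A] [IsScalarTower R R' B] [IsScalarTower R' A B]
    [Algebra.FinitePresentation R R'] [Algebra.FinitePresentation R B] [Module.Finite R' B]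
    (e : B →ₗ[A] A) (he : ∀ a, e (algebraMap A B a) = a) : Algebra.FinitePresentation R A := by
  haveI : Algebra.FinitePresentation R' B := Algebra.FinitePresentation.of_restrict_scalars_finitePresentation R R' B
  haveI : Module.FinitePresentation R' B := Module.FinitePresentation.of_finite_of_finitePresentation R' B
  let i : A →ₗ[R'] B := (Algebra.linearMap A B).restrictScalars R'
  let r : B →ₗ[R'] A := e.restrictScalars R'
  have hri : ∀ a, r (i a) = a := he
  have hi : Function.Injective i := Function.LeftInverse.injective hri
  let m : B →ₗ[R'] B := LinearMap.id - i ∘ₗ r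
  haveI : Module.FinitePresentation R' A := by
    refine Module.finitePresentation_of_split_exact i m.rangeRestrict (LinearMap.range m).subtype ?_ hi ?_
    · refine LinearMap.ext fun z => Subtype.ext ?_
      obtain ⟨z, w, rfl⟩ := z
      show (w - i (r w)) - i (r (w - i (r w))) = w - i (r w)
      simp [map_sub, hri]
    · intro b
      constructor
      · intro hb
        exact ⟨r b, (sub_eq_zero.1 (congrArg Subtype.val hb)).symm⟩
      · rintro ⟨a, rfl⟩
        refine Subtype.ext ?_
        show i a - i (r (i a)) = 0
        rw [hri, sub_self]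
  haveI : Algebra.FinitePresentation R' A := Algebra.FinitePresentation.of_finitePresentation R' A
  exact Algebra.FinitePresentation.trans R R' A

theorem finitePresentation_of_retract_of_roots (R R' A B : Type u) [CommRing R] [CommRing R'] [CommRing A]
    [CommRing B] [Algebra R R'] [Algebra R A] [Algebra R B] [Algebra A B] [IsScalarTower R A B]
    [Algebra.FinitePresentation R R'] [Algebra.FinitePresentation R B]
    (e : B →ₗ[A] A) (he : ∀ a, e (algebraMap A B a) = a) (φ : R' →ₐ[R] A)
    (s : Finset B) (hs : Algebra.adjoin R (s : Set B) = ⊤)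
    (hroot : ∀ b ∈ s, ∃ Q : Polynomial R', Q.Monic ∧ Polynomial.eval₂ ((algebraMap A B).comp φ.toRingHom) b Q = 0) :
    Algebra.FinitePresentation R A := by
  letI : Algebra R' A := φ.toRingHom.toAlgebra
  letI : Algebra R' B := ((algebraMap A B).comp φ.toRingHom).toAlgebra
  haveI : IsScalarTower R' A B := IsScalarTower.of_algebraMap_eq' rfl
  haveI : IsScalarTower R R' A := IsScalarTower.of_algebraMap_eq' φ.comp_algebraMap.symm
  haveI : IsScalarTower R R' B := IsScalarTower.of_algebraMap_eq' (by
    ext r
    show algebraMap R B r = algebraMap A B (φ (algebraMap R R' r))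
    rw [φ.commutes, ← IsScalarTower.algebraMap_apply])
  haveI : Module.Finite R' B := by
    have hgen : Algebra.adjoin R' (s : Set B) = ⊤ := by
      refine top_le_iff.1 fun b _ => ?_
      have hb : b ∈ Algebra.adjoin R (s : Set B) := by rw [hs]; exact Algebra.mem_top
      induction hb using Algebra.adjoin_induction with
      | mem x hx => exact Algebra.subset_adjoin hx
      | algebraMap r =>
        rw [IsScalarTower.algebraMap_apply R R' B]
        exact Subalgebra.algebraMap_mem _ _
      | add x y _ _ hx hy => exact add_mem (hx trivial) (hy trivial)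
      | mul x y _ _ hx hy => exact mul_mem (hx trivial) (hy trivial)
    refine ⟨?_⟩
    rw [← Algebra.top_toSubmodule, ← hgen]
    exact fg_adjoin_of_finite s.finite_toSet fun b hb => hroot b hb
  exact finitePresentation_of_retract R R' A B e he

variable (G A B : Type u) [Group G] [Finite G] [CommRing A] [CommRing B] [Algebra A B]
  [MulSemiringAction G B] [SMulCommClass G A B] [Algebra.IsInvariant A B G] [FaithfulSMul A B]
  (hu : IsUnit ((Nat.card G : ℕ) : A))

include hu

theorem exists_retraction : ∃ e : B →ₗ[A] A, (∀ a, e (algebraMap A B a) = a) ∧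
    (∀ b, (∀ g : G, g • b = b) → algebraMap A B (e b) = b) ∧
    ∀ b, algebraMap A B (e b) = ((hu.unit⁻¹ : Aˣ) : A) •
      (letI := Fintype.ofFinite G; ∑ g : G, (MulSemiringAction.toAlgHom A B g).toLinearMap b) := by
  classical
  letI := Fintype.ofFinite G
  let T : B →ₗ[A] B := ((hu.unit⁻¹ : Aˣ) : A) • ∑ g : G, (MulSemiringAction.toAlgHom A B g).toLinearMap
  have hT : ∀ b, T b = ((hu.unit⁻¹ : Aˣ) : A) • ∑ g : G, g • b := fun b => by
    simp [T, LinearMap.sum_apply]
  have hmem : ∀ b, T b ∈ LinearMap.range (Algebra.linearMap A B) := fun b => by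
    obtain ⟨a, ha⟩ := Algebra.IsInvariant.isInvariant (A := A) (G := G) (T b) fun h => by
      rw [hT, smul_comm, Finset.smul_sum]
      congr 1
      exact Fintype.sum_equiv (Equiv.mulLeft h) _ _ fun g => (mul_smul h g b).symm
    exact ⟨a, ha⟩
  have hi : Function.Injective (Algebra.linearMap A B) := FaithfulSMul.algebraMap_injective A B
  let e : B →ₗ[A] A := (LinearEquiv.ofInjective (Algebra.linearMap A B) hi).symm.toLinearMap ∘ₗ
    T.codRestrict (LinearMap.range (Algebra.linearMap A B)) hmem
  have he : ∀ b, algebraMap A B (e b) = T b := fun b =>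
    congrArg Subtype.val ((LinearEquiv.ofInjective (Algebra.linearMap A B) hi).apply_symm_apply ⟨T b, hmem b⟩)
  have hfix : ∀ b, (∀ g : G, g • b = b) → algebraMap A B (e b) = b := fun b hb => by
    rw [he, hT, Finset.sum_congr rfl fun g _ => hb g, Finset.sum_const, Finset.card_univ,
      ← Nat.cast_smul_eq_nsmul A, smul_smul, ← Nat.card_eq_fintype_card, IsUnit.val_inv_mul, one_smul]
  exact ⟨e, fun a => hi (hfix _ fun g => smul_algebraMap g a), hfix, fun b => by
    rw [he, hT]; simp⟩

section BaseChange

variable (A' : Type u) [CommRing A'] [Algebra A A']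

theorem exists_of_invariant_tensor (x : A' ⊗[A] B)
    (hx : ∀ g : G, (MulSemiringAction.toAlgHom A B g).toLinearMap.lTensor A' x = x) :
    ∃ a : A', x = a ⊗ₜ (1 : B) := by
  classical
  letI := Fintype.ofFinite G
  obtain ⟨e, -, -, he⟩ := exists_retraction G A B hu
  have hcomp : Algebra.linearMap A B ∘ₗ e =
      ((hu.unit⁻¹ : Aˣ) : A) • ∑ g : G, (MulSemiringAction.toAlgHom A B g).toLinearMap := by
    ext b
    simp only [LinearMap.comp_apply, Algebra.linearMap_apply, LinearMap.smul_apply, LinearMap.sum_apply]
    exact he b
  have key : (Algebra.linearMap A B).lTensor A' (e.lTensor A' x) = x := by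
    rw [← LinearMap.comp_apply, ← LinearMap.lTensor_comp, hcomp, LinearMap.lTensor_smul]
    have hs : (LinearMap.lTensor A' (∑ g : G, (MulSemiringAction.toAlgHom A B g).toLinearMap)) x =
        ∑ g : G, (MulSemiringAction.toAlgHom A B g).toLinearMap.lTensor A' x := by
      rw [← LinearMap.coe_lTensorHom, map_sum, LinearMap.sum_apply]
    rw [LinearMap.smul_apply, hs, Finset.sum_congr rfl fun g _ => hx g, Finset.sum_const, Finset.card_univ,
      ← Nat.cast_smul_eq_nsmul A, smul_smul, ← Nat.card_eq_fintype_card, IsUnit.val_inv_mul, one_smul]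
  refine ⟨TensorProduct.rid A A' (e.lTensor A' x), ?_⟩
  have h : ∀ z : A' ⊗[A] A, (Algebra.linearMap A B).lTensor A' z = TensorProduct.rid A A' z ⊗ₜ (1 : B) := by
    intro z
    induction z with
    | zero => simp
    | tmul y b => simp [Algebra.algebraMap_eq_smul_one, smul_tmul]
    | add z w hz hw => rw [map_add, map_add, add_tmul, hz, hw]
  rw [← h, key]

include G in
theorem injective_tmul_one : Function.Injective fun a : A' => a ⊗ₜ[A] (1 : B) := by
  obtain ⟨e, he, -⟩ := exists_retraction G A B hu
  have h1 : e 1 = 1 := by rw [← map_one (algebraMap A B), he]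
  intro a b hab
  have := congrArg (fun z => TensorProduct.rid A A' (e.lTensor A' z)) hab
  simpa [h1] using this

end BaseChange

variable (R : Type u) [CommRing R] [Algebra R A] [Algebra R B] [IsScalarTower R A B]

include G in
theorem flat_invariants [Module.Flat R B] : Module.Flat R A := by
  obtain ⟨e, he, -⟩ := exists_retraction G A B hu
  exact Module.Flat.of_retract ((Algebra.linearMap A B).restrictScalars R) (e.restrictScalars R)
    (LinearMap.ext he)

include G in
theorem finitePresentation_invariants [Algebra.FinitePresentation R B] : Algebra.FinitePresentation R A := by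
  classical
  obtain ⟨e, he, -⟩ := exists_retraction G A B hu
  haveI hAB : Algebra.IsIntegral A B := Algebra.IsInvariant.isIntegral A B G
  obtain ⟨s, hs⟩ := (Algebra.FiniteType.out : (⊤ : Subalgebra R B).FG)
  choose P hP hP0 using fun b : B => hAB.isIntegral b
  let T : Finset A := s.biUnion fun b => (P b).coeffs
  refine finitePresentation_of_retract_of_roots R (MvPolynomial {a // a ∈ T} R) A B e he
    (MvPolynomial.aeval fun t : {a // a ∈ T} => (t : A)) s hs fun b hb => ?_
  rcases subsingleton_or_nontrivial A with hA | hA
  · haveI : Subsingleton B := Module.subsingleton A B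
    exact ⟨1, Polynomial.monic_one, Subsingleton.elim _ _⟩
  have hmem : P b ∈ Polynomial.lifts (MvPolynomial.aeval (R := R) fun t : {a // a ∈ T} => (t : A)).toRingHom := by
    rw [Polynomial.lifts_iff_coeff_lifts]
    intro n
    by_cases h0 : (P b).coeff n = 0
    · exact ⟨0, by rw [map_zero, h0]⟩
    · exact ⟨MvPolynomial.X ⟨(P b).coeff n, Finset.mem_biUnion.2 ⟨b, hb, Polynomial.coeff_mem_coeffs h0⟩⟩,
        MvPolynomial.aeval_X _ _⟩
  obtain ⟨Q, hQ, -, hQm⟩ := Polynomial.lifts_and_degree_eq_and_monic hmem (hP b)
  refine ⟨Q, hQm, ?_⟩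
  have := hP0 b
  rw [← hQ, Polynomial.eval₂_map] at this
  exact this

end GrothLib.QuotAvg9
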