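import Groth.Agent.Lib.QuotAvg9.Avg
import Groth.Agent.Lib.SGA1Quot21.Descend
import Mathlib.Algebra.Category.Ring.Constructions
import Mathlib.AlgebraicGeometry.Morphisms.Flat
import Mathlib.AlgebraicGeometry.Morphisms.FinitePresentation

/-!
# Quotients by finite groups of invertible order: base change, flatness, finite presentation
-/

set_option autoImplicit false
set_option linter.all false
set_option backward.isDefEq.respectTransparency false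

universe u

open CategoryTheory CategoryTheory.Limits AlgebraicGeometry TensorProduct TopologicalSpace

namespace GrothLib.QuotAvg9

open GrothLib.SGA1Quot21 (act IsInv isInv_app sectionsAction sections_smulComm smul_def isQuot_of_basis)

variable {X Y X' Y' : Scheme.{u}} {G : Type u} [Group G] [Finite G]
  {ρ : G →* Aut X} {p : X ⟶ Y} {qY : Y' ⟶ Y} {pX : X' ⟶ X} {p' : X' ⟶ Y'}
  {ρ' : G →* Aut X'}

/-- Over an affine piece of a base change (invertible order) the invariant sections are those of the base. -/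
theorem sections_baseChange [IsAffineHom p] (hu : IsUnit ((Nat.card G : ℕ) : Γ(Y, ⊤))) (hsq : IsPullback pX p' p qY)
    (hinv : ∀ g : G, (ρ g).hom ≫ p = p) (hinv' : ∀ g : G, (ρ' g).hom ≫ p' = p')
    (hcompat : ∀ g : G, (ρ' g).hom ≫ pX = pX ≫ (ρ g).hom)
    (V : Y.Opens) (hV : IsAffineOpen V) (hI : Function.Injective (p.app V).hom)
    (hR : ∀ s, IsInv ρ p hinv V s → s ∈ Set.range (p.app V).hom)
    (W : Y'.Opens) (hW : IsAffineOpen W) (hle : W ≤ qY ⁻¹ᵁ V) :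
    Function.Injective (p'.app W).hom ∧
      ∀ s, IsInv ρ' p' hinv' W s → s ∈ Set.range (p'.app W).hom := by
  have hUX : IsAffineOpen (p ⁻¹ᵁ V) := hV.preimage p
  have hle2 : p' ⁻¹ᵁ W ≤ pX ⁻¹ᵁ (p ⁻¹ᵁ V) := by
    rw [← Scheme.Hom.comp_preimage, hsq.w, Scheme.Hom.comp_preimage]
    exact p'.preimage_mono hle
  have hUY : p' ⁻¹ᵁ W = pX ⁻¹ᵁ (p ⁻¹ᵁ V) ⊓ p' ⁻¹ᵁ W := (inf_eq_right.2 hle2).symm
  have hpo := (isIso_pushoutSection_iff hsq hle le_rfl hUY).1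
    (isIso_pushoutSection_of_isAffineOpen hsq hle le_rfl hUY hV hW hUX)
  rw [Scheme.Hom.appLE_eq_app, Scheme.Hom.appLE_eq_app] at hpo
  letI := (p.app V).hom.toAlgebra
  letI := (qY.appLE V W hle).hom.toAlgebra
  letI := (pX.appLE (p ⁻¹ᵁ V) (p' ⁻¹ᵁ W) hle2).hom.toAlgebra
  letI := (p'.app W).hom.toAlgebra
  letI := ((qY.appLE V W hle ≫ p'.app W).hom).toAlgebra
  letI := sectionsAction ρ p hinv V
  haveI := sections_smulComm ρ p hinv V
  haveI : IsScalarTower Γ(Y, V) Γ(Y', W) Γ(X', p' ⁻¹ᵁ W) := .of_algebraMap_eq' rfl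
  haveI : IsScalarTower Γ(Y, V) Γ(X, p ⁻¹ᵁ V) Γ(X', p' ⁻¹ᵁ W) := by
    refine .of_algebraMap_eq' ?_
    have := hpo.w
    exact congrArg CommRingCat.Hom.hom this.symm
  haveI : Algebra.IsPushout Γ(Y, V) Γ(Y', W) Γ(X, p ⁻¹ᵁ V) Γ(X', p' ⁻¹ᵁ W) :=
    CommRingCat.isPushout_iff_isPushout.1 hpo.flip
  have huV : IsUnit ((Nat.card G : ℕ) : Γ(Y, V)) := by
    have h := hu.map (Y.presheaf.map (homOfLE (le_top : V ≤ ⊤)).op).hom
    rwa [map_natCast] at h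
  haveI : FaithfulSMul Γ(Y, V) Γ(X, p ⁻¹ᵁ V) := (faithfulSMul_iff_algebraMap_injective _ _).2 hI
  haveI : Algebra.IsInvariant Γ(Y, V) Γ(X, p ⁻¹ᵁ V) G := ⟨fun a ha => hR a fun g => by
    have := ha g⁻¹
    rw [smul_def, inv_inv] at this
    exact this⟩
  let e := Algebra.IsPushout.equiv Γ(Y, V) Γ(Y', W) Γ(X, p ⁻¹ᵁ V) Γ(X', p' ⁻¹ᵁ W)
  have he : ∀ b : Γ(Y', W), e (b ⊗ₜ 1) = (p'.app W).hom b := fun b => by
    rw [Algebra.IsPushout.equiv_tmul, map_one, mul_one]; rfl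
  have hact : ∀ (g : G) (z : Γ(Y', W) ⊗[Γ(Y, V)] Γ(X, p ⁻¹ᵁ V)),
      (act ρ' p' hinv' W g⁻¹).hom (e z) =
        e ((MulSemiringAction.toAlgHom Γ(Y, V) Γ(X, p ⁻¹ᵁ V) g).toLinearMap.lTensor Γ(Y', W) z) := by
    intro g z
    induction z with
    | zero => simp
    | tmul b a =>
      rw [LinearMap.lTensor_tmul, Algebra.IsPushout.equiv_tmul, Algebra.IsPushout.equiv_tmul, map_mul]
      congr 1
      · exact isInv_app ρ' p' hinv' W b g⁻¹
      · show (pX.appLE _ _ hle2 ≫ act ρ' p' hinv' W g⁻¹).hom a =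
          (act ρ p hinv V g⁻¹ ≫ pX.appLE _ _ hle2).hom a
        rw [act, act, Scheme.Hom.appLE_comp_appLE, Scheme.Hom.appLE_comp_appLE]
        congr 3
        exact hcompat g⁻¹
    | add z w hz hw => simp only [map_add, hz, hw]
  refine ⟨fun b c h => ?_, fun s hs => ?_⟩
  · exact injective_tmul_one G Γ(Y, V) Γ(X, p ⁻¹ᵁ V) huV Γ(Y', W)
      (e.injective ((he b).trans (h.trans (he c).symm)))
  · obtain ⟨z, rfl⟩ := e.surjective s
    obtain ⟨b, rfl⟩ := exists_of_invariant_tensor G Γ(Y, V) Γ(X, p ⁻¹ᵁ V) huV Γ(Y', W) z fun g =>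
      e.injective ((hact g z).symm.trans (hs g⁻¹))
    exact ⟨b, (he b).symm⟩

/-- Quotients commute with base change (invertible order). -/
theorem isQuot_baseChange (hu : IsUnit ((Nat.card G : ℕ) : Γ(Y, ⊤))) (hp : SGA1.IsQuot ρ p) (hsq : IsPullback pX p' p qY)
    (hinv' : ∀ g : G, (ρ' g).hom ≫ p' = p') (hcompat : ∀ g : G, (ρ' g).hom ≫ pX = pX ≫ (ρ g).hom) :
    SGA1.IsQuot ρ' p' := by
  haveI := hp.affine
  haveI : IsAffineHom p' := MorphismProperty.of_isPullback hsq ‹IsAffineHom p›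
  have key : ∀ W : Y'.Opens, (IsAffineOpen W ∧ ∃ V : Y.Opens, IsAffineOpen V ∧ W ≤ qY ⁻¹ᵁ V) →
      Function.Injective (p'.app W).hom ∧
        ∀ s, IsInv ρ' p' hinv' W s → s ∈ Set.range (p'.app W).hom := by
    rintro W ⟨hW, V, hV, hle⟩
    exact sections_baseChange hu hsq hp.inv hinv' hcompat V hV (hp.injective V)
      (fun s => (hp.range_iff V s).2) W hW hle
  refine isQuot_of_basis ρ' p' hinv'
    (fun W => IsAffineOpen W ∧ ∃ V : Y.Opens, IsAffineOpen V ∧ W ≤ qY ⁻¹ᵁ V) (fun U y hy => ?_)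
    (fun W hW => (key W hW).1) (fun W hW => (key W hW).2)
  obtain ⟨_, ⟨V, hV, rfl⟩, hyV, -⟩ := Y.isBasis_affineOpens.exists_subset_of_mem_open
    (Set.mem_univ (qY y)) isOpen_univ
  obtain ⟨_, ⟨W, hW, rfl⟩, hyW, hle⟩ := Y'.isBasis_affineOpens.exists_subset_of_mem_open
    (show y ∈ ((U ⊓ qY ⁻¹ᵁ V : Y'.Opens) : Set Y') from ⟨hy, hyV⟩) (U ⊓ qY ⁻¹ᵁ V).2
  exact ⟨W, ⟨hW, V, hV, fun z hz => (hle hz).2⟩, hyW, fun z hz => (hle hz).1⟩

variable {S : Scheme.{u}} (hp : SGA1.IsQuot ρ p) (q : Y ⟶ S) (hu : IsUnit ((Nat.card G : ℕ) : Γ(Y, ⊤)))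
include hp hu

theorem flat_of_comp [Flat (p ≫ q)] : Flat q := by
  haveI := hp.affine
  rw [HasRingHomProperty.iff_appLE (P := @Flat)]
  intro V U e
  have hf : ((p ≫ q).appLE V.1 (p ⁻¹ᵁ U.1) (p.preimage_mono e)).hom.Flat :=
    HasRingHomProperty.appLE @Flat (p ≫ q) inferInstance V ⟨_, U.2.preimage p⟩ (p.preimage_mono e)
  have e2 : (p ≫ q).appLE V.1 (p ⁻¹ᵁ U.1) (p.preimage_mono e) = q.appLE V.1 U.1 e ≫ p.app U.1 := by
    rw [Scheme.Hom.app_eq_appLE, Scheme.Hom.appLE_comp_appLE]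
  rw [e2] at hf
  have huU : IsUnit ((Nat.card G : ℕ) : Γ(Y, U.1)) := by
    have h := hu.map (Y.presheaf.map (homOfLE (le_top : U.1 ≤ ⊤)).op).hom
    rwa [map_natCast] at h
  letI := (p.app U.1).hom.toAlgebra
  letI := (q.appLE V.1 U.1 e).hom.toAlgebra
  letI := (q.appLE V.1 U.1 e ≫ p.app U.1).hom.toAlgebra
  letI := sectionsAction ρ p hp.inv U.1
  haveI := GrothLib.SGA1Quot21.sections_isInvariant hp U.1
  haveI := sections_smulComm ρ p hp.inv U.1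
  haveI := GrothLib.SGA1Quot21.sections_faithful hp U.1
  haveI : IsScalarTower Γ(S, V.1) Γ(Y, U.1) Γ(X, p ⁻¹ᵁ U.1) := .of_algebraMap_eq' rfl
  haveI : Module.Flat Γ(S, V.1) Γ(X, p ⁻¹ᵁ U.1) := hf
  exact flat_invariants G Γ(Y, U.1) Γ(X, p ⁻¹ᵁ U.1) huU Γ(S, V.1)

theorem locallyOfFinitePresentation_of_comp [LocallyOfFinitePresentation (p ≫ q)] :
    LocallyOfFinitePresentation q := by
  haveI := hp.affine
  rw [HasRingHomProperty.iff_appLE (P := @LocallyOfFinitePresentation)]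
  intro V U e
  have hf : ((p ≫ q).appLE V.1 (p ⁻¹ᵁ U.1) (p.preimage_mono e)).hom.FinitePresentation :=
    HasRingHomProperty.appLE @LocallyOfFinitePresentation (p ≫ q) inferInstance V ⟨_, U.2.preimage p⟩
      (p.preimage_mono e)
  have e2 : (p ≫ q).appLE V.1 (p ⁻¹ᵁ U.1) (p.preimage_mono e) = q.appLE V.1 U.1 e ≫ p.app U.1 := by
    rw [Scheme.Hom.app_eq_appLE, Scheme.Hom.appLE_comp_appLE]
  rw [e2] at hf
  have huU : IsUnit ((Nat.card G : ℕ) : Γ(Y, U.1)) := by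
    have h := hu.map (Y.presheaf.map (homOfLE (le_top : U.1 ≤ ⊤)).op).hom
    rwa [map_natCast] at h
  letI := (p.app U.1).hom.toAlgebra
  letI := (q.appLE V.1 U.1 e).hom.toAlgebra
  letI := (q.appLE V.1 U.1 e ≫ p.app U.1).hom.toAlgebra
  letI := sectionsAction ρ p hp.inv U.1
  haveI := GrothLib.SGA1Quot21.sections_isInvariant hp U.1
  haveI := sections_smulComm ρ p hp.inv U.1
  haveI := GrothLib.SGA1Quot21.sections_faithful hp U.1
  haveI : IsScalarTower Γ(S, V.1) Γ(Y, U.1) Γ(X, p ⁻¹ᵁ U.1) := .of_algebraMap_eq' rfl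
  haveI : Algebra.FinitePresentation Γ(S, V.1) Γ(X, p ⁻¹ᵁ U.1) := hf
  exact finitePresentation_invariants G Γ(Y, U.1) Γ(X, p ⁻¹ᵁ U.1) huU Γ(S, V.1)

end GrothLib.QuotAvg9
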